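import Groth.Agent.NumTriv23.Volume
import Groth.Agent.Coherent.CohBC.Global
import Mathlib.FieldTheory.IsAlgClosed.AlgebraicClosure

/-!
# Sections of numerically trivial invertible modules on projective integral schemes
-/

set_option autoImplicit false
set_option linter.style.haveILetI false
set_option backward.isDefEq.respectTransparency.types false

universe u

open CategoryTheory CategoryTheory.Limits AlgebraicGeometry TopologicalSpace Opposite
open Groth.Agent.Coherent Groth.Agent.AmpleLib Groth.Agent.EulerLib Groth.Agent.PicLib Groth.Agent.H0Growth23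
open Groth.Agent.NumTriv23 Groth.Agent.VarietyLib

noncomputable section

namespace Groth.Agent.NumSec27

section infinite

variable {X : Scheme.{u}} (k : Type u) [Field k] [Infinite k] [X.Over (Spec (CommRingCat.of k))]
  [IsProper (X ↘ Spec (CommRingCat.of k))]

theorem exists_h0_eq_infinite {A : X.Modules} (hA : CohB1.IsAmple A) :
    ∃ m₀ : ℕ, ∀ m, m₀ ≤ m → ∀ c, IsNum k c →
      hh k (Coh.structureModule X) 0 (InvCl.mk A hA.1 ^ m * c) =
        hh k (Coh.structureModule X) 0 (InvCl.mk A hA.1 ^ m) := by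
  haveI := isNoetherian_of_proper (X := X) k
  haveI : X.IsSeparated := isSeparated_of_proper k
  have hO := Coherent.isCoh_structureModule X
  obtain ⟨m₀, hm₀⟩ := exists_uniform_vanish k hA hO
  refine ⟨m₀, fun m hm c hc => ?_⟩
  set a := InvCl.mk A hA.1
  have hv : ∀ c, IsNum k c → chiCl k (Coh.structureModule X) (a ^ m * c) =
      (hh k (Coh.structureModule X) 0 (a ^ m * c) : ℤ) := fun c hc => by
    have hv1 : ∀ i, 1 ≤ i → hh k (Coh.structureModule X) i (a ^ m * c) = 0 := fun i hi => by
      rw [mul_comm]; exact hm₀ m hm c hc i hi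
    rw [chiCl_eq_of_vanish k (fun i hi => hv1 i (by omega)) hO, hv1 1 le_rfl, Nat.cast_zero, sub_zero]
  have h := chiCl_eq_of_num k ⟨A, hA⟩ (isCoh_twCl k hO (a ^ m)) hc
  rw [chiCl_twCl, chiCl_twCl, hv c hc, hv 1 (isNum_one k), Nat.cast_inj, mul_one] at h
  exact h

end infinite

variable {X : Scheme.{u}} (k : Type u) [Field k] [X.Over (Spec (CommRingCat.of k))]
  [IsProper (X ↘ Spec (CommRingCat.of k))]

attribute [local instance] overBC

theorem exists_h0_eq {A : X.Modules} (hA : CohB1.IsAmple A) :
    ∃ m₀ : ℕ, ∀ m, m₀ ≤ m → ∀ c, IsNum k c →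
      hh k (Coh.structureModule X) 0 (InvCl.mk A hA.1 ^ m * c) =
        hh k (Coh.structureModule X) 0 (InvCl.mk A hA.1 ^ m) := by
  obtain ⟨m₀, hm₀⟩ := exists_h0_eq_infinite (AlgebraicClosure k) (isAmple_bc k (AlgebraicClosure k) hA)
  refine ⟨m₀, fun m hm c hc => ?_⟩
  have h := hm₀ m hm _ (isNum_bc k (AlgebraicClosure k) ⟨A, hA⟩ hc)
  rwa [← pullHom_mk _ hA.1, ← map_pow, ← map_mul, hh_bc, hh_bc] at h

theorem finrank_global (M : X.Modules) :
    Module.finrank k (Coh.HH X M 0) =
      Module.finrank k ((CohIII.globalSectionsA k).obj M : ModuleCat.{u} k) :=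
  (CohBC.globalEquivA k M).finrank_eq

/-- A numerically trivial invertible module on a projective integral scheme is generated by any nonzero section. -/
theorem glocus_eq_top [IsIntegral X] (hproj : ∃ A : X.Modules, CohB1.IsAmple A) {R : X.Modules}
    (hR : PicF.IsInvertible R) (hnum : IsNum k (InvCl.mk R hR)) (σ : Γ(R, (⊤ : X.Opens))) (hσ : σ ≠ 0) :
    glocus R σ = ⊤ := by
  haveI := isNoetherian_of_proper (X := X) k
  haveI : X.IsSeparated := isSeparated_of_proper k
  obtain ⟨A, hA⟩ := hproj
  obtain ⟨m₀, hm₀⟩ := exists_h0_eq k hA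
  obtain ⟨n₁, -, hn₁⟩ := eventually_ample_and_generated hA hR
  let m := m₀ + n₁
  let P := CohB1.tensorPow A m
  have hP : PicF.IsInvertible P := isInvertible_tensorPow hA.1 m
  let u : P ⟶ CohB1.tensorMod P R := EulerLib.mulSec P σ
  have hcP := CurveRR24.isCoh_of_isInvertible k hP
  have hPR := isInvertible_tensorMod hP hR
  have hcPR := CurveRR24.isCoh_of_isInvertible k hPR
  have hinj : Function.Injective (u.app ⊤) := by
    intro a b hab
    by_contra hne
    have h0 : u.app ⊤ (a - b) = 0 := by rw [map_sub, hab, sub_self]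
    rw [EulerLib.mulSec_app, resM_self] at h0
    have hη := CurveRR24.genericPoint_mem_glocus hR hσ
    have hη' := CurveRR24.genericPoint_mem_glocus hP (sub_ne_zero.2 hne)
    have h1 : genericPoint X ∈ glocus (CohB1.tensorMod P R) (tmul (a - b) σ) := by
      rw [glocus_tmul hP hR]; exact ⟨hη', hη⟩
    rw [h0] at h1
    exact (CurveRR24.mem_glocus_iff_germ hPR 0 (genericPoint X)).1 h1 (by
      rw [map_zero]; exact zero_mem _)
  let φ := ((CohIII.globalSectionsA k).map u).hom
  haveI := CurveRR24.finite_HH_of_isCoh k hcP 0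
  haveI := CurveRR24.finite_HH_of_isCoh k hcPR 0
  haveI : Module.Finite k ((CohIII.globalSectionsA k).obj P : ModuleCat.{u} k) :=
    Module.Finite.equiv (CohBC.globalEquivA k P)
  haveI : Module.Finite k ((CohIII.globalSectionsA k).obj (CohB1.tensorMod P R) : ModuleCat.{u} k) :=
    Module.Finite.equiv (CohBC.globalEquivA k (CohB1.tensorMod P R))
  have hfr : Module.finrank k ((CohIII.globalSectionsA k).obj P : ModuleCat.{u} k) =
      Module.finrank k ((CohIII.globalSectionsA k).obj (CohB1.tensorMod P R) : ModuleCat.{u} k) := by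
    rw [← finrank_global, ← finrank_global, ← hh_structure k 0 P hP, ← hh_structure k 0 _ hPR,
      ← InvCl.mk_mul hP hR, InvCl.mk_tensorPow hA.1 m]
    exact (hm₀ m (Nat.le_add_right _ _) _ hnum).symm
  have hsur : Function.Surjective φ := (φ.injective_iff_surjective_of_finrank_eq_finrank hfr).1 hinj
  refine top_le_iff.1 fun x _ => ?_
  obtain ⟨b, hb⟩ := exists_mem_glocus_of_gg hPR (hn₁ m (Nat.le_add_left _ _)).2 x
  obtain ⟨a, ha⟩ := hsur b
  have ha' : u.app ⊤ (show Γ(P, (⊤ : X.Opens)) from a) = b := ha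
  rw [EulerLib.mulSec_app, resM_self] at ha'
  rw [← ha', glocus_tmul hP hR] at hb
  exact hb.2

end Groth.Agent.NumSec27
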