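import Groth.Agent.NumSec27.Projective
import Groth.Agent.VarietyLib.PullDegree

/-!
# Euler characteristics are numerical invariants on proper schemes over any field
-/

set_option autoImplicit false
set_option linter.style.haveILetI false
set_option backward.isDefEq.respectTransparency.types false

universe u

open CategoryTheory CategoryTheory.Limits AlgebraicGeometry TopologicalSpace Opposite
open Groth.Agent.Coherent Groth.Agent.AmpleLib Groth.Agent.EulerLib Groth.Agent.PicLib Groth.Agent.AssSch12
open Groth.Agent.NumTriv23 Groth.Agent.VarietyLib Groth.Agent.DimLib Groth.Agent.H0Growth23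

noncomputable section

namespace Groth.Agent.NumSec27

variable {X : Scheme.{u}} (k : Type u) [Field k] [X.Over (Spec (CommRingCat.of k))]
  [IsProper (X ↘ Spec (CommRingCat.of k))]

attribute [local instance] NumTriv23.overBC

theorem euler_of_proj (hproj : ∃ A : X.Modules, CohB1.IsAmple A) (e : InvCl X) {c : InvCl X} (hc : IsNum k c) :
    chiCl k (Coh.structureModule X) (e * c) = chiCl k (Coh.structureModule X) e := by
  let K := AlgebraicClosure k
  let g := Curv2.bcFst k X K
  have hbc : ∀ a : InvCl X, chiCl K (Coh.structureModule (Curv2.bc k X K)) (pullHom g a) =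
      chiCl k (Coh.structureModule X) a := by
    intro a
    haveI := isNoetherian_of_proper (X := X) k
    obtain ⟨L, hL, rfl⟩ := InvCl.exists_rep a
    rw [pullHom_mk, chiCl_mk, chiCl_mk, euler_congr K _ (unitTensorIso _), euler_congr k X (unitTensorIso L)]
    exact euler_bc k K L (PicLib.isCoh_of_isInvertible hL).1
  haveI := isNoetherian_of_proper (X := Curv2.bc k X K) K
  have h := chiCl_eq_of_num K (exists_ample_bc k K hproj)
    (isCoh_twCl K (Coherent.isCoh_structureModule (Curv2.bc k X K)) (pullHom g e)) (isNum_bc k K hproj hc)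
  rwa [chiCl_twCl, chiCl_twCl, mul_one, ← map_mul, hbc, hbc] at h

omit [IsProper (X ↘ Spec (CommRingCat.of k))] in
theorem isNum_pullHom [IsProper (X ↘ Spec (CommRingCat.of k))] {W : Scheme.{u}} [W.Over (Spec (CommRingCat.of k))]
    [IsProper (W ↘ Spec (CommRingCat.of k))] (f : W ⟶ X)
    (hf : f ≫ (X ↘ Spec (CommRingCat.of k)) = W ↘ Spec (CommRingCat.of k)) {L : X.Modules}
    (hL : PicF.IsInvertible L) (h : IsNum k (InvCl.mk L hL)) : IsNum k (pullHom f (InvCl.mk L hL)) := by
  rw [pullHom_mk]
  refine sameDeg_of_curveDeg k _ isInvertible_structureModule fun C j _ hC hdC => ?_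
  letI : C.Over (Spec (CommRingCat.of k)) := ⟨j ≫ (W ↘ Spec (CommRingCat.of k))⟩
  haveI : IsProper (C ↘ Spec (CommRingCat.of k)) :=
    inferInstanceAs (IsProper (j ≫ (W ↘ Spec (CommRingCat.of k))))
  have hji : (j ≫ f) ≫ (X ↘ Spec (CommRingCat.of k)) = C ↘ Spec (CommRingCat.of k) := by
    rw [Category.assoc, hf]; rfl
  have h2 := curveDeg_pullback_congr k (j ≫ f) hji hdC.le hL isInvertible_structureModule h
  rw [show j ≫ (W ↘ Spec (CommRingCat.of k)) = C ↘ Spec (CommRingCat.of k) from rfl]
  rw [curveDeg_congr k (show (Scheme.Modules.pullback j).obj ((Scheme.Modules.pullback f).obj L) ≅ _ from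
      (Scheme.Modules.pullbackComp j f).app L), curveDeg_congr k (PicLoc.pullbackStructureIso j),
    ← curveDeg_congr k (PicLoc.pullbackStructureIso (j ≫ f))]
  exact h2

/-- The modules on which the numerically trivial `c` does not change the Euler characteristic. -/
def Inv' (c : InvCl X) (M : X.Modules) : Prop := chiCl k M c = chiCl k M 1

theorem devClass_inv' (c : InvCl X) : DevClass (Inv' k c) := by
  haveI := isNoetherian_of_proper (X := X) k
  exact
  { iso := fun e hM => by show _ = _; rw [← chiCl_congr k e]; exact hM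
    zero := fun M hM => by
      have he : CohB1.support M = ∅ := Set.subset_empty_iff.1 (support_of_isZero hM ∅)
      have hz : chiCl k M = 0 := by
        have h := finDeg_chiCl k (isCoh_of_isZero hM) (r := 0) (by rw [he]; exact dim_empty_lt 0)
        exact funext fun x => congrFun (show (fun y => chiCl k M (Additive.toMul y)) = 0 from h) (Additive.ofMul x)
      show _ = _
      rw [hz]; rfl
    ses := fun S hS h₁ h₂ h₃ => by
      have e := chiCl_additive k S hS h₁ h₂ h₃
      have e1 := congrFun e c
      have e2 := congrFun e 1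
      simp only [Pi.add_apply] at e1 e2
      show (_ = _ → _ = _ → _ = _) ∧ (_ = _ → _ = _ → _ = _) ∧ (_ = _ → _ = _ → _ = _)
      refine ⟨fun u v => ?_, fun u v => ?_, fun u v => ?_⟩ <;> omega }

/-- **Numerical invariance of the Euler characteristic**, proper schemes, any field. -/
theorem chiCl_eq_of_num_proper {L : X.Modules} (hL : PicF.IsInvertible L) (hnum : IsNum k (InvCl.mk L hL))
    {F : X.Modules} (hF : Coh.IsCoh F) : chiCl k F (InvCl.mk L hL) = chiCl k F 1 := by
  classical
  haveI := isNoetherian_of_proper (X := X) k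
  let c := InvCl.mk L hL
  refine mem_of_support (devClass_inv' k c).toExt (CohB1.support F) (fun Z hZ hZi hZX y hy Z₀ hZ₀ hsm => ?_)
    ⟨_, isClosed_support F (locallyFinGen_of_isFT F hF.2)⟩ subset_rfl F hF subset_rfl
  -- a projective birational model of the closure of `y`
  let i := (clI y).subschemeι
  haveI : IsIntegral (clI y).subscheme := isIntegral_vanishingIdeal _ isIrreducible_singleton.closure
  letI : (clI y).subscheme.Over (Spec (CommRingCat.of k)) := ⟨i ≫ (X ↘ Spec (CommRingCat.of k))⟩
  haveI : IsProper ((clI y).subscheme ↘ Spec (CommRingCat.of k)) :=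
    inferInstanceAs (IsProper (i ≫ (X ↘ Spec (CommRingCat.of k))))
  let d := ptDim (X ↘ Spec (CommRingCat.of k)) y
  have hdy : topologicalKrullDim (closure ({y} : Set X)) = (d : WithBot ℕ∞) :=
    topologicalKrullDim_eq_ptDim_of_isGenericPoint _ isGenericPoint_closure
  have hdim : topologicalKrullDim (clI y).subscheme = (d : WithBot ℕ∞) := by
    rw [i.isClosedEmbedding.isEmbedding.toHomeomorph.isHomeomorph.topologicalKrullDim_eq, ← hdy]
    exact congrArg (fun S : Set X => topologicalKrullDim S) (range_clι y)
  obtain ⟨W, _, _, _, π, _, H, hH, hπ, hπη, hdeg, hdW⟩ := exists_chow_integral (k := k) (Y := (clI y).subscheme) hdim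
  let f := π ≫ i
  haveI : IsProper f := inferInstanceAs (IsProper (π ≫ i))
  have hf : f ≫ (X ↘ Spec (CommRingCat.of k)) = W ↘ Spec (CommRingCat.of k) := by
    rw [Category.assoc]; exact hπ
  have hfy : f (genericPoint W) = y := by
    rw [Scheme.Hom.comp_apply, hπη]; exact clI_genericPoint y
  obtain ⟨n, hn⟩ := exists_pow_chiCl_push f k hf hH {c, 1}
  have hM := isInvertible_tensorPow hH.1 n
  have hMc : Coh.IsCoh (CohB1.tensorPow H n) := PicLib.isCoh_of_isInvertible hM
  have hP : Coh.IsCoh ((Coh.push f).obj (CohB1.tensorPow H n)) := isCoh_push_proper f hMc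
  have hGK : Inv' k c ((Coh.push f).obj (CohB1.tensorPow H n)) := by
    show _ = _
    rw [hn c (by simp), hn 1 (by simp), map_one]
    have hfun : ∀ x, chiCl k (CohB1.tensorPow H n) x = chiCl k (Coh.structureModule W) (InvCl.mk _ hM * x) := fun x =>
      (congrFun (chiCl_congr k (unitTensorIso _).symm) x).trans (chiCl_mul k _ hM x).symm
    rw [hfun, hfun, mul_one]
    exact euler_of_proj k ⟨H, hH⟩ _ (isNum_pullHom k f hf hL hnum)
  have hrange : ∀ z : W, f z ∈ closure ({y} : Set X) := fun z => by
    rw [← hfy]
    exact specializes_iff_mem_closure.1 (((genericPoint_spec W).specializes trivial).map f.continuous)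
  have hsupp : CohB1.support ((Coh.push f).obj (CohB1.tensorPow H n)) ⊆ Z₀ := fun x hx => by
    obtain ⟨z, -, rfl⟩ := CycLib28.support_push_subset_image f f.isClosedMap _
      (isClosed_support _ (locallyFinGen_of_isFT _ hMc.2)) hx
    exact hZ₀ (hy ▸ hrange z)
  refine oneK_of_length_one (devClass_inv' k c) hsm hP hGK hsupp ?_
  have hm := mult_push_invertible k f hf hM hdW (by rw [hfy])
  rw [CycLib28.residueDegree_comp, CycLib28.residueDegree_preimmersion i, _root_.one_mul, hdeg, hfy] at hm
  unfold VarietyLib.mult at hm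
  have h1 := (ENat.toNat_eq_iff (n := 1) one_ne_zero).1 hm
  exact_mod_cast h1

end Groth.Agent.NumSec27
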