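import Groth.Agent.NumSec27.EulerProper

/-!
# Numerical triviality on proper schemes and extensions of the base field
-/

set_option autoImplicit false
set_option linter.style.haveILetI false
set_option backward.isDefEq.respectTransparency.types false

universe u

open CategoryTheory CategoryTheory.Limits AlgebraicGeometry TopologicalSpace Opposite
open Groth.Agent.Coherent Groth.Agent.AmpleLib Groth.Agent.EulerLib Groth.Agent.PicLib
open Groth.Agent.NumTriv23 Groth.Agent.H0Growth23 Groth.Agent.VarietyLib

noncomputable section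

namespace Groth.Agent.NumSec27

variable {X : Scheme.{u}} (k : Type u) [Field k] [X.Over (Spec (CommRingCat.of k))]
  [IsProper (X ↘ Spec (CommRingCat.of k))]

attribute [local instance] NumTriv23.overBC

theorem isNumEquivZero_of_isNum {L : X.Modules} (hL : PicF.IsInvertible L) (h : IsNum k (InvCl.mk L hL)) :
    Pic13.IsNumEquivZero k X L := by
  intro C j _ hC hdC
  letI : C.Over (Spec (CommRingCat.of k)) := ⟨j ≫ (X ↘ Spec (CommRingCat.of k))⟩
  haveI : IsProper (C ↘ Spec (CommRingCat.of k)) :=
    inferInstanceAs (IsProper (j ≫ (X ↘ Spec (CommRingCat.of k))))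
  rw [show j ≫ (X ↘ Spec (CommRingCat.of k)) = C ↘ Spec (CommRingCat.of k) from rfl,
    curveDeg_pullback_congr k j rfl hdC.le hL isInvertible_structureModule h,
    curveDeg_congr k (PicLoc.pullbackStructureIso j)]
  exact sub_self _

variable (K : Type u) [Field K] [Algebra k K]

/-- Numerical triviality on a proper scheme is stable under extensions of the base field. -/
theorem isNumEquivZero_bc {L : X.Modules} (hL : PicF.IsInvertible L) (h : IsNum k (InvCl.mk L hL)) :
    Pic13.IsNumEquivZero K (Curv2.bc k X K) ((Scheme.Modules.pullback (Curv2.bcFst k X K)).obj L) := by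
  haveI := isNoetherian_of_proper (X := X) k
  obtain ⟨N, X', π, j, hj, hjs, hπ, hπs, -⟩ :=
    H8Lim.ChowPn.exists_chow_pn_dense (f := X ↘ Spec (CommRingCat.of k))
      NoetherianSpace.finite_irreducibleComponents
  letI : X'.Over (Spec (CommRingCat.of k)) := ⟨π ≫ (X ↘ Spec (CommRingCat.of k))⟩
  haveI := hπ
  haveI : IsProper (X' ↘ Spec (CommRingCat.of k)) :=
    inferInstanceAs (IsProper (π ≫ (X ↘ Spec (CommRingCat.of k))))
  obtain ⟨-, -, H, hH⟩ := RelVALib.isQuasiProjective_of_immersion_pn (f := X' ↘ Spec (CommRingCat.of k))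
    j hjs
  have hHa : CohB1.IsAmple H := RelVALib.isAmple_of_isRelAmple_of_isAffine _ hH
  let g := Curv2.bcFst k X K
  let g' := Curv2.bcFst k X' K
  have hX' := EulerLib.isPullback_bc k X' K
  have hX := EulerLib.isPullback_bc k X K
  let πK : Curv2.bc k X' K ⟶ Curv2.bc k X K :=
    hX.lift (g' ≫ π) (Curv2.bcSnd k X' K) (by rw [Category.assoc]; exact hX'.w)
  have h1 : πK ≫ g = g' ≫ π := hX.lift_fst _ _ _
  have h2 : πK ≫ Curv2.bcSnd k X K = Curv2.bcSnd k X' K := hX.lift_snd _ _ _
  haveI : Surjective πK := by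
    haveI : Surjective π := hπs
    have hsq : IsPullback g' πK π g := by
      refine IsPullback.of_bot ?_ h1.symm hX
      rw [h2]
      exact hX'
    exact MorphismProperty.of_isPullback (P := @Surjective) hsq inferInstance
  have hπK : πK ≫ (Curv2.bc k X K ↘ Spec (CommRingCat.of K)) = Curv2.bc k X' K ↘ Spec (CommRingCat.of K) := h2
  have hn' : IsNum k (InvCl.mk _ (PicLoc.isInvertible_pullback π hL)) := by
    have := isNum_pullHom k π rfl hL h
    rwa [pullHom_mk] at this
  have hnE := isNum_bc k K ⟨H, hHa⟩ hn'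
  rw [pullHom_mk] at hnE
  have hLg := PicLoc.isInvertible_pullback g hL
  have hnum := isNumEquivZero_of_isNum K _ hnE
  intro C i _ hC hdC
  letI : C.Over (Spec (CommRingCat.of K)) := ⟨i ≫ (Curv2.bc k X K ↘ Spec (CommRingCat.of K))⟩
  haveI : IsProper (C ↘ Spec (CommRingCat.of K)) :=
    inferInstanceAs (IsProper (i ≫ (Curv2.bc k X K ↘ Spec (CommRingCat.of K))))
  rw [show i ≫ (Curv2.bc k X K ↘ Spec (CommRingCat.of K)) = C ↘ Spec (CommRingCat.of K) from rfl,
    sameDeg_of_pullback_surjective K πK hπK hLg isInvertible_structureModule ?_ i rfl hdC,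
    curveDeg_congr K (PicLoc.pullbackStructureIso i)]
  · exact sub_self _
  intro D a _ hD hdD
  letI : D.Over (Spec (CommRingCat.of K)) := ⟨a ≫ (Curv2.bc k X' K ↘ Spec (CommRingCat.of K))⟩
  have e : (Scheme.Modules.pullback πK).obj ((Scheme.Modules.pullback g).obj L) ≅
      (Scheme.Modules.pullback g').obj ((Scheme.Modules.pullback π).obj L) :=
    (Scheme.Modules.pullbackComp πK g).app L ≪≫ (Scheme.Modules.pullbackCongr h1).app L ≪≫
      ((Scheme.Modules.pullbackComp g' π).app L).symm
  have h0 := hnum D a hD hdD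
  rw [show a ≫ (Curv2.bc k X' K ↘ Spec (CommRingCat.of K)) = D ↘ Spec (CommRingCat.of K) from rfl] at h0 ⊢
  rw [curveDeg_congr K ((Scheme.Modules.pullback a).mapIso e), h0,
    curveDeg_congr K ((Scheme.Modules.pullback a).mapIso (PicLoc.pullbackStructureIso πK) ≪≫
      PicLoc.pullbackStructureIso a)]
  exact (sub_self _).symm

/-- Numerical triviality descends along extensions of the base field. -/
theorem isNum_of_bc {L : X.Modules} (hL : PicF.IsInvertible L)
    (h : Pic13.IsNumEquivZero K (Curv2.bc k X K) ((Scheme.Modules.pullback (Curv2.bcFst k X K)).obj L)) :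
    IsNum k (InvCl.mk L hL) := by
  haveI := isNoetherian_of_proper (X := X) k
  haveI := isNoetherian_of_proper (X := Curv2.bc k X K) K
  let g := Curv2.bcFst k X K
  have hLg := PicLoc.isInvertible_pullback g hL
  intro y _
  have hy : Coh.IsCoh (AssSch12.clM y) := Coherent.isCoh_clM y
  have hyg : Coh.IsCoh ((Scheme.Modules.pullback g).obj (AssSch12.clM y)) := ⟨haveI := hy.1; EGA43.InjFibre.isQCoh_pullback g _, Coherent.isFT_pullback_qcoh g hy.1 hy.2⟩
  have e := chiCl_eq_of_num_proper K hLg (isNum_of_isNumEquivZero K hLg h) hyg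
  have e2 : Curv2.euler K (Curv2.bc k X K)
      ((Scheme.Modules.pullback g).obj (CohB1.tensorMod (AssSch12.clM y) L)) =
    Curv2.euler K (Curv2.bc k X K)
      (CohB1.tensorMod ((Scheme.Modules.pullback g).obj (AssSch12.clM y)) ((Scheme.Modules.pullback g).obj L)) :=
    euler_congr K _ (DCat.PullTensor.pullTensorIso g (AssSch12.clM y) L)
  rw [chiCl_mk, chiCl_one, ← e2,
    euler_bc k K _ (isCoh_twist hL hy).1, euler_bc k K _ hy.1] at e
  rw [chiCl_mk, chiCl_one]
  exact e

end Groth.Agent.NumSec27
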